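import Mathlib
import Groth.Prelude.Def_NonAbH1
import Groth.Agent.TorsExtLib.Props
import Groth.Agent.TorsFpqcLib.Basic
import Groth.Agent.DensePtsLib.AlgClosed
import Groth.Agent.AlgSpLib.AffineFpqc

/-!
# Torsors under finite connected groups over fields
-/

set_option autoImplicit false
set_option backward.isDefEq.respectTransparency false
universe u

open CategoryTheory CategoryTheory.Limits MonoidalCategory CartesianMonoidalCategory AlgebraicGeometry
open NonAbH1
open scoped MonObj

attribute [-instance] CategoryTheory.Hom.commGroup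

noncomputable section

namespace Groth.Agent.TorsFinite

variable {K : Type u} [Field K]

/-- An algebra with a unique geometric point, whose image is separable, has a rational point. -/
theorem exists_retraction {A : Type u} [CommRing A] [Algebra K A] (φ : A →ₐ[K] AlgebraicClosure K)
    (huniq : ∀ ψ : A →ₐ[K] AlgebraicClosure K, ψ = φ) (hsep : ∀ a, IsSeparable K (φ a)) :
    Nonempty (A →ₐ[K] K) := by
  have h : ∀ a, φ a ∈ (⊥ : Subalgebra K (AlgebraicClosure K)) := by
    intro a
    have hs : (minpoly K (φ a)).Separable := hsep a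
    have hint : IsIntegral K (φ a) := Algebra.IsIntegral.isIntegral _
    have hroot : ∀ r ∈ (minpoly K (φ a)).rootSet (AlgebraicClosure K), r = φ a := by
      intro r hr
      have hc : IsConjRoot K (φ a) r := (isConjRoot_iff_mem_minpoly_rootSet hint).2 hr
      obtain ⟨σ, hσ⟩ := hc.symm.exists_algEquiv
      rw [← hσ]
      exact congr($(huniq (σ.toAlgHom.comp φ)) a)
    have hcard := Polynomial.card_rootSet_eq_natDegree (K := AlgebraicClosure K) hs (IsAlgClosed.splits _)
    haveI : Subsingleton ((minpoly K (φ a)).rootSet (AlgebraicClosure K)) :=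
      ⟨fun x y => Subtype.ext ((hroot _ x.2).trans (hroot _ y.2).symm)⟩
    have hdeg : (minpoly K (φ a)).natDegree = 1 :=
      le_antisymm (hcard ▸ Fintype.card_le_one_iff_subsingleton.2 inferInstance) (minpoly.natDegree_pos hint)
    obtain ⟨c, hc⟩ := minpoly.natDegree_eq_one_iff.1 hdeg
    exact Algebra.mem_bot.2 ⟨c, hc⟩
  exact ⟨(Algebra.botEquiv K (AlgebraicClosure K)).toAlgHom.comp (φ.codRestrict _ h)⟩

variable {G X : Over (Spec (CommRingCat.of K))} [GrpObj G] [IsFinite G.hom] [ConnectedSpace G.left]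

/-- A finite connected group has one point with values in a reduced scheme. -/
theorem point_eq_one {T : Over (Spec (CommRingCat.of K))} [IsReduced T.left] (g : T ⟶ G) : g = 1 := by
  haveI : IsLocallyArtinian (Spec (CommRingCat.of K)) := inferInstance
  haveI : IsLocallyArtinian G.left := .of_locallyQuasiFinite G.hom
  haveI : DiscreteTopology G.left := inferInstance
  haveI : Subsingleton G.left := PreconnectedSpace.trivial_of_discrete
  haveI : IsClosedImmersion (η[G] : 𝟙_ (Over (Spec (CommRingCat.of K))) ⟶ G).left := by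
    haveI : IsClosedImmersion ((η[G] : 𝟙_ (Over (Spec (CommRingCat.of K))) ⟶ G).left ≫ G.hom) := by
      rw [Over.w]; exact inferInstanceAs (IsClosedImmersion (𝟙 (Spec (CommRingCat.of K))))
    exact IsClosedImmersion.of_comp _ G.hom
  obtain ⟨ψ, hψ⟩ := Groth.Agent.DensePts.factors_of_range g η[G] (by
    rintro y -
    exact ⟨IsLocalRing.closedPoint K, Subsingleton.elim _ _⟩)
  rw [← hψ, Hom.one_def]
  exact congrArg (· ≫ η[G]) (toUnit_unique _ _)

/-- A torsor under a finite connected group with a separable point is trivial. -/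
theorem hasSectionOver_of_separable (a : AlgGrp.Action G X) (h : NonAbH1.IsTorsorFor Scheme.fpqcPrecoverage a)
    (hsep : ∀ (A : Type u) [CommRing A] [Algebra K A] [Module.Finite K A]
      (e : Spec (CommRingCat.of A) ⟶ X.left), IsIso e →
      e ≫ X.hom = Spec.map (CommRingCat.ofHom (algebraMap K A)) →
      ∃ φ : A →ₐ[K] AlgebraicClosure K, ∀ a, IsSeparable K (φ a)) :
    NonAbH1.HasSectionOver X (𝟙 (Spec (CommRingCat.of K))) := by
  haveI : IsFinite X.hom := Groth.Agent.TorsFpqc.property_of_torsor @IsFinite a h ‹_›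
  haveI : IsAffine X.left := isAffine_of_isAffineHom X.hom
  obtain ⟨φ₀, hφ₀⟩ := Spec.map_surjective (X.left.isoSpec.inv ≫ X.hom)
  letI : Algebra K Γ(X.left, ⊤) := φ₀.hom.toAlgebra
  have hst : X.left.isoSpec.inv ≫ X.hom = Spec.map (CommRingCat.ofHom (algebraMap K Γ(X.left, ⊤))) := hφ₀.symm
  haveI : Module.Finite K Γ(X.left, ⊤) := by
    haveI : IsFinite (Spec.map φ₀) := by rw [hφ₀]; infer_instance
    exact RingHom.finite_algebraMap.1 ((IsFinite.SpecMap_iff φ₀).1 inferInstance)
  obtain ⟨φ, hφ⟩ := hsep Γ(X.left, ⊤) X.left.isoSpec.inv inferInstance hst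
  -- geometric points are unique
  let Kb := AlgebraicClosure K
  let T : Over (Spec (CommRingCat.of K)) := Over.mk (Spec.map (CommRingCat.ofHom (algebraMap K Kb)))
  haveI : AlgebraicGeometry.IsReduced T.left := inferInstanceAs (AlgebraicGeometry.IsReduced (Spec (CommRingCat.of Kb)))
  let pt : (Γ(X.left, ⊤) →ₐ[K] Kb) → (T ⟶ X) := fun ψ =>
    Over.homMk (Spec.map (CommRingCat.ofHom ψ.toRingHom) ≫ X.left.isoSpec.inv) (by
      show (_ ≫ _) ≫ X.hom = Spec.map _
      rw [Category.assoc, hst, ← Spec.map_comp, ← CommRingCat.ofHom_comp]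
      exact congrArg (fun f => Spec.map (CommRingCat.ofHom f)) ψ.comp_algebraMap)
  haveI : IsIso (lift a.act (snd G X)) := h.1
  have huniq : ∀ ψ, ψ = φ := by
    intro ψ
    let w : T ⟶ G ⊗ X := lift (pt ψ) (pt φ) ≫ inv (lift a.act (snd G X))
    have hw : w ≫ lift a.act (snd G X) = lift (pt ψ) (pt φ) := by
      simp only [w, Category.assoc, IsIso.inv_hom_id, Category.comp_id]
    have h1 : w ≫ a.act = pt ψ := by simpa using congrArg (· ≫ fst X X) hw
    have h2 : w ≫ snd G X = pt φ := by simpa using congrArg (· ≫ snd X X) hw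
    have h3 : w = lift (toUnit T) (pt φ) ≫ (η[G] ▷ X) := by
      refine CartesianMonoidalCategory.hom_ext _ _ ?_ (by simp [h2])
      rw [point_eq_one (w ≫ fst G X)]
      simp [Hom.one_def]
    have h4 : pt ψ = pt φ := by
      rw [← h1, h3, Category.assoc, a.one_act, leftUnitor_hom, lift_snd]
    have h5 : Spec.map (CommRingCat.ofHom ψ.toRingHom) = Spec.map (CommRingCat.ofHom φ.toRingHom) :=
      (cancel_mono X.left.isoSpec.inv).1 (congrArg CommaMorphism.left h4)
    exact AlgHom.coe_ringHom_injective (congrArg CommRingCat.Hom.hom (Spec.map_injective h5))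
  obtain ⟨r⟩ := exists_retraction φ huniq hφ
  refine ⟨Spec.map (CommRingCat.ofHom r.toRingHom) ≫ X.left.isoSpec.inv, ?_⟩
  rw [Category.assoc, hst, ← Spec.map_comp, ← CommRingCat.ofHom_comp]
  exact (congrArg (fun f => Spec.map (CommRingCat.ofHom f)) r.comp_algebraMap).trans (Spec.map_id _)

end Groth.Agent.TorsFinite
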